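import Groth.Agent.UnivHomeo.Basic
import Mathlib.FieldTheory.Isaacs
import Mathlib.AlgebraicGeometry.Limits
import Mathlib.RingTheory.Polynomial.ScaleRoots
/-!
Affine covers with algebraically closed residue fields.
-/

set_option autoImplicit false
set_option backward.isDefEq.respectTransparency false
set_option backward.isDefEq.respectTransparency.types false

universe u

open CategoryTheory CategoryTheory.Limits AlgebraicGeometry Polynomial

namespace Groth.Agent.AlgClosCover

variable (B : Type u) [CommRing B]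

/-- Monic nonconstant polynomials. -/
abbrev MonicPol : Type u := {P : B[X] // P.Monic ∧ 0 < P.natDegree}

/-- The ideal making each variable a root of its polynomial. -/
noncomputable def rootIdeal : Ideal (MvPolynomial (MonicPol B) B) :=
  Ideal.span (Set.range fun P : MonicPol B => (P.1.aeval (MvPolynomial.X P)))

/-- A ring over `B` in which every monic nonconstant polynomial over `B` has a chosen root. -/
abbrev RootRing : Type u := MvPolynomial (MonicPol B) B ⧸ rootIdeal B

theorem aeval_root (P : MonicPol B) :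
    P.1.aeval (Ideal.Quotient.mk (rootIdeal B) (MvPolynomial.X P)) = 0 := by
  rw [← Ideal.Quotient.mkₐ_eq_mk B, Polynomial.aeval_algHom_apply, Ideal.Quotient.mkₐ_eq_mk]
  exact Ideal.Quotient.eq_zero_iff_mem.2 (Ideal.subset_span ⟨P, rfl⟩)

instance : Algebra.IsIntegral B (RootRing B) := by
  refine ⟨fun x => ?_⟩
  obtain ⟨x, rfl⟩ := Ideal.Quotient.mk_surjective x
  induction x using MvPolynomial.induction_on with
  | C a => exact isIntegral_algebraMap
  | add p q hp hq => rw [map_add]; exact hp.add hq
  | mul_X p P hp => rw [map_mul]; exact hp.mul ⟨P.1, P.2.1, aeval_root B P⟩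

theorem comap_surjective : Function.Surjective (PrimeSpectrum.comap (algebraMap B (RootRing B))) := by
  intro p
  let K := AlgebraicClosure p.asIdeal.ResidueField
  have hr : ∀ P : MonicPol B, ∃ r : K, P.1.aeval r = 0 := fun P => by
    obtain ⟨r, hr⟩ := IsAlgClosed.exists_root (P.1.map (algebraMap B K)) (by
      rw [P.2.1.degree_map]
      exact (Polynomial.natDegree_pos_iff_degree_pos.1 P.2.2).ne')
    exact ⟨r, by rw [Polynomial.aeval_def, ← Polynomial.eval_map]; exact hr⟩
  choose r hr using hr
  let φ : RootRing B →ₐ[B] K := Ideal.Quotient.liftₐ _ (MvPolynomial.aeval r) fun a ha => by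
    have h : rootIdeal B ≤ RingHom.ker (MvPolynomial.aeval (R := B) r : _ →ₐ[B] K).toRingHom := by
      rw [rootIdeal, Ideal.span_le]
      rintro _ ⟨P, rfl⟩
      show MvPolynomial.aeval r (P.1.aeval (MvPolynomial.X P)) = 0
      rw [← Polynomial.aeval_algHom_apply, MvPolynomial.aeval_X]
      exact hr P
    exact h ha
  refine ⟨⟨RingHom.ker φ.toRingHom, RingHom.ker_isPrime _⟩, PrimeSpectrum.ext ?_⟩
  ext b
  show φ (algebraMap B (RootRing B) b) = 0 ↔ _
  rw [φ.commutes, IsScalarTower.algebraMap_apply B p.asIdeal.ResidueField K,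
    map_eq_zero_iff _ (algebraMap p.asIdeal.ResidueField K).injective]
  exact Ideal.algebraMap_residueField_eq_zero

theorem residue_spec (x : Spec (CommRingCat.of (RootRing B))) :
    IsAlgClosed ((Spec (CommRingCat.of (RootRing B))).residueField x) ∧
      ((Spec.map (CommRingCat.ofHom (algebraMap B (RootRing B)))).residueFieldMap x).hom.IsIntegral := by
  let f := Spec.map (CommRingCat.ofHom (algebraMap B (RootRing B)))
  let F := (Spec (CommRingCat.of B)).residueField (f x)
  let L := (Spec (CommRingCat.of (RootRing B))).residueField x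
  letI : Algebra F L := (f.residueFieldMap x).hom.toAlgebra
  have hev : ∀ b, algebraMap F L (UnivHomeo.ev (f x) b) = UnivHomeo.ev x (algebraMap B (RootRing B) b) :=
    UnivHomeo.residueFieldMap_ev _ x
  have hint : ∀ c : RootRing B, IsIntegral F (UnivHomeo.ev x c) := fun c => by
    obtain ⟨P, hP, hc⟩ := Algebra.IsIntegral.isIntegral (R := B) c
    refine ⟨P.map (UnivHomeo.ev (f x)), hP.map _, ?_⟩
    rw [Polynomial.eval₂_map, show (algebraMap F L).comp (UnivHomeo.ev (f x)) =
      (UnivHomeo.ev x).comp (algebraMap B (RootRing B)) from RingHom.ext hev, ← Polynomial.hom_eval₂, hc, map_zero]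
  haveI : Algebra.IsIntegral F L := ⟨fun z => by
    obtain ⟨b, s, -, rfl⟩ := UnivHomeo.exists_div_ev x z
    rw [div_eq_mul_inv]
    exact (hint b).mul (IsAlgebraic.inv (hint s).isAlgebraic).isIntegral⟩
  haveI : Algebra.IsAlgebraic F L := Algebra.IsIntegral.isAlgebraic
  refine ⟨?_, fun z => Algebra.IsIntegral.isIntegral (R := F) z⟩
  haveI : IsAlgClosure F L := IsAlgClosure.of_exists_root fun p hp hirr => by
    -- clear denominators
    choose b s hs hbs using fun i => UnivHomeo.exists_div_ev (f x) (p.coeff i)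
    let n := p.natDegree
    let S : B := ∏ i ∈ Finset.range n, s i
    have hS : UnivHomeo.ev (f x) S ≠ 0 := fun h =>
      have h' := (UnivHomeo.ev_eq_zero (f x) S).1 h
      let ⟨i, _, hi⟩ := ((f x).isPrime.prod_mem_iff).1 h'
      hs i hi
    have hco : ∀ i, i < n → ∃ c : B, UnivHomeo.ev (f x) c =
        p.coeff i * UnivHomeo.ev (f x) S ^ (n - i) := fun i hi => by
      obtain ⟨t, ht⟩ := Finset.dvd_prod_of_mem s (Finset.mem_range.2 hi)
      refine ⟨b i * t * S ^ (n - i - 1), ?_⟩
      have hsi : UnivHomeo.ev (f x) (s i) ≠ 0 := fun h => hs i ((UnivHomeo.ev_eq_zero _ _).1 h)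
      have hSt : UnivHomeo.ev (f x) S = UnivHomeo.ev (f x) (s i) * UnivHomeo.ev (f x) t := by
        rw [← map_mul]; exact congrArg _ ht
      rw [hbs i, show n - i = (n - i - 1) + 1 by omega, pow_succ, map_mul, map_mul, map_pow, hSt]
      rw [show n - i - 1 + 1 - 1 = n - i - 1 by omega]
      field_simp
    choose! c hc using hco
    haveI : Nontrivial B := ⟨⟨0, 1, fun h => (f x).isPrime.ne_top ((Ideal.eq_top_iff_one _).2 (h ▸ Submodule.zero_mem _))⟩⟩
    let P : B[X] := X ^ n + ∑ i : Fin n, C (c i) * X ^ (i : ℕ)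
    have hn : 0 < n := hirr.natDegree_pos
    have hdeg : (∑ i : Fin n, C (c i) * X ^ (i : ℕ)).degree < (n : WithBot ℕ) := Polynomial.degree_sum_fin_lt _
    have hPm : P.Monic := Polynomial.monic_X_pow_add hdeg
    have hPmap : P.map (UnivHomeo.ev (f x)) = p.scaleRoots (UnivHomeo.ev (f x) S) := by
      ext i
      rw [Polynomial.coeff_map, Polynomial.coeff_scaleRoots]
      simp only [P, Polynomial.coeff_add, Polynomial.coeff_X_pow, Polynomial.finsetSum_coeff,
        Polynomial.coeff_C_mul, mul_ite, mul_one, mul_zero, map_add, map_sum]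
      rcases lt_trichotomy i n with hi | hi | hi
      · rw [if_neg hi.ne, map_zero, zero_add, Finset.sum_eq_single (⟨i, hi⟩ : Fin n)]
        · rw [if_pos rfl]; exact hc i hi
        · intro j _ hj
          rw [if_neg (fun h => hj (Fin.ext h.symm)), map_zero]
        · exact fun h => (h (Finset.mem_univ _)).elim
      · subst hi
        rw [if_pos rfl, map_one, Finset.sum_eq_zero fun j _ => by rw [if_neg j.2.ne', map_zero]]
        simp [n, hp.coeff_natDegree]
      · rw [if_neg hi.ne', map_zero, Finset.sum_eq_zero fun (j : Fin n) _ => by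
          rw [if_neg (j.2.trans hi).ne', map_zero], Polynomial.coeff_eq_zero_of_natDegree_lt hi]
        simp
    by_cases hPd : 0 < P.natDegree
    · let r := Ideal.Quotient.mk (rootIdeal B) (MvPolynomial.X ⟨P, hPm, hPd⟩)
      have h0 : (p.scaleRoots (UnivHomeo.ev (f x) S)).aeval (UnivHomeo.ev x r) = 0 := by
        rw [← hPmap, Polynomial.aeval_def, Polynomial.eval₂_map, show (algebraMap F L).comp (UnivHomeo.ev (f x)) =
          (UnivHomeo.ev x).comp (algebraMap B (RootRing B)) from RingHom.ext hev, ← Polynomial.hom_eval₂]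
        exact (congrArg _ (aeval_root B ⟨P, hPm, hPd⟩)).trans (map_zero _)
      refine ⟨UnivHomeo.ev x r / algebraMap F L (UnivHomeo.ev (f x) S), ?_⟩
      have hu : algebraMap F L (UnivHomeo.ev (f x) S) ≠ 0 := (_root_.map_ne_zero _).2 hS
      rw [Polynomial.aeval_def] at h0 ⊢
      rw [show UnivHomeo.ev x r = algebraMap F L (UnivHomeo.ev (f x) S) *
        (UnivHomeo.ev x r / algebraMap F L (UnivHomeo.ev (f x) S)) by field_simp,
        Polynomial.scaleRoots_eval₂_mul] at h0
      exact (mul_eq_zero.1 h0).resolve_left (pow_ne_zero _ hu)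
    · exact absurd (show P.natDegree = n from (Polynomial.natDegree_eq_of_degree_eq_some (by
        rw [Polynomial.degree_add_eq_left_of_degree_lt (by rwa [Polynomial.degree_X_pow]), Polynomial.degree_X_pow])))
        (by omega)
  exact IsAlgClosure.isAlgClosed F

theorem exists_cover (X : Scheme.{u}) [CompactSpace X] [QuasiSeparatedSpace X] :
    ∃ (X' : Scheme.{u}) (f : X' ⟶ X), IsAffine X' ∧ QuasiCompact f ∧ Surjective f ∧
      ∀ x' : X', IsAlgClosed (X'.residueField x') ∧ (f.residueFieldMap x').hom.IsIntegral := by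
  let 𝒰 := X.affineCover.finiteSubcover
  haveI hA : ∀ i, IsAffine (𝒰.X i) := fun i => by dsimp [𝒰, Scheme.OpenCover.finiteSubcover]; infer_instance
  let Y := ∐ 𝒰.X
  let g : Y ⟶ X := Sigma.desc 𝒰.f
  let A := Γ(Y, ⊤)
  let e : Spec (CommRingCat.of (A : Type u)) ≅ Y := Y.isoSpec.symm
  let φ := Spec.map (CommRingCat.ofHom (algebraMap A (RootRing A)))
  have hY : ∀ y : ↥Y, (g.residueFieldMap y).hom.IsIntegral := fun y => by
    obtain ⟨⟨i, z⟩, rfl⟩ := (sigmaMk 𝒰.X).surjective y
    rw [sigmaMk_mk]
    have hi : Function.Bijective ((Sigma.ι 𝒰.X i).residueFieldMap z) := ConcreteCategory.bijective_of_isIso _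
    have hc : Function.Surjective (((Sigma.ι 𝒰.X i) ≫ g).residueFieldMap z) := by
      haveI : IsOpenImmersion (Sigma.ι 𝒰.X i ≫ g) := by rw [Sigma.ι_desc]; infer_instance
      exact (ConcreteCategory.bijective_of_isIso _).surjective
    rw [Scheme.residueFieldMap_comp] at hc
    refine RingHom.IsIntegral.of_finite (RingHom.Finite.of_surjective _ fun c => ?_)
    obtain ⟨a, ha⟩ := hc ((Sigma.ι 𝒰.X i).residueFieldMap z c)
    exact ⟨a, hi.injective ha⟩
  haveI : Surjective φ := ⟨comap_surjective A⟩
  haveI : Surjective g := ⟨fun x => by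
    obtain ⟨i, z, hz⟩ := 𝒰.exists_eq x
    exact ⟨Sigma.ι 𝒰.X i z, by rw [← Scheme.Hom.comp_apply, Sigma.ι_desc, hz]⟩⟩
  refine ⟨Spec (CommRingCat.of (RootRing A)), φ ≫ e.hom ≫ g, inferInstance,
    QuasiCompact.of_comp _ X.toSpecΓ, inferInstance, fun x' => ⟨(residue_spec A x').1, ?_⟩⟩
  rw [Scheme.residueFieldMap_comp, Scheme.residueFieldMap_comp, CommRingCat.hom_comp,
    CommRingCat.hom_comp]
  exact RingHom.IsIntegral.trans _ _ (RingHom.IsIntegral.trans _ _ (hY _)
    (RingHom.IsIntegral.of_finite (RingHom.Finite.of_surjective _ (ConcreteCategory.bijective_of_isIso _).surjective)))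
    (residue_spec A x').2

end Groth.Agent.AlgClosCover
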